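import Mathlib
import Groth.Prelude.Def_BlowUp2
import Groth.Agent.Lib.Helper29.AffBlowAlg

/-!
# The affine blow-up algebra commutes with localization away from an element
-/

namespace Groth.Agent.Lib.Helper24.BlowAlgLoc

open Groth.Agent.Lib.Helper29.AffBlow

universe u

/-- characterization of the fraction `x / π` in `A[I/π]`. -/
lemma eq_frac_of_mul_eq (A : Type u) [CommRing A] (I : Ideal A) (π : A) (x : A) (hx : x ∈ I)
    (y : BlowUp.affineAlgebra A I π)
    (h : algebraMap A (BlowUp.affineAlgebra A I π) π * y =
      algebraMap A (BlowUp.affineAlgebra A I π) x) : y = frac A I π x hx := by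
  have h1 := algebraMap_eq_mul_frac A I π x hx
  have h2 : (y - frac A I π x hx) * algebraMap A (BlowUp.affineAlgebra A I π) π = 0 := by
    rw [sub_mul, mul_comm, h, mul_comm, ← h1, sub_self]
  exact sub_eq_zero.mp
    ((mem_nonZeroDivisors_iff_right.mp (algebraMap_mem_nonZeroDivisors A I π)) _ h2)

/-- the kernel of `A_π → (A_a)_π` is the `a`-power torsion. -/
lemma exists_pow_mul_eq_zero (A : Type u) [CommRing A] (π a : A) (w : Localization.Away π)
    (hw : Localization.awayMap (algebraMap A (Localization.Away a)) π w = 0) :
    ∃ n : ℕ, algebraMap A (Localization.Away π) (a ^ n) * w = 0 := by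
  obtain ⟨r, ⟨_, k, rfl⟩, rfl⟩ := IsLocalization.exists_mk'_eq (Submonoid.powers π) w
  rw [Localization.awayMap, IsLocalization.Away.map, IsLocalization.map_mk',
    IsLocalization.mk'_eq_zero_iff] at hw
  obtain ⟨⟨_, j, rfl⟩, hj⟩ := hw
  have h2 : algebraMap A (Localization.Away a) (π ^ j * r) = 0 := by
    rw [map_mul, map_pow]; exact hj
  rw [IsLocalization.map_eq_zero_iff (Submonoid.powers a)] at h2
  obtain ⟨⟨_, n, rfl⟩, hn⟩ := h2
  refine ⟨n, ?_⟩
  have h3 : algebraMap A (Localization.Away π) (a ^ n) *
      IsLocalization.mk' (Localization.Away π) r (⟨π ^ k, k, rfl⟩ : Submonoid.powers π) =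
      IsLocalization.mk' (Localization.Away π) (a ^ n * r) (⟨π ^ k, k, rfl⟩ : Submonoid.powers π) := by
    rw [IsLocalization.mul_mk'_eq_mk'_of_mul]
  rw [h3, IsLocalization.mk'_eq_zero_iff]
  refine ⟨⟨π ^ j, j, rfl⟩, ?_⟩
  show π ^ j * (a ^ n * r) = 0
  have hn' : a ^ n * (π ^ j * r) = 0 := hn
  rw [← hn']
  ring

theorem main (A : Type u) [CommRing A] (I : Ideal A) (π a : A) (hπ : π ∈ I)
    (ψ : BlowUp.affineAlgebra A I π →+*
      BlowUp.affineAlgebra (Localization.Away a) (I.map (algebraMap A (Localization.Away a)))
        (algebraMap A (Localization.Away a) π))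
    (hψ : ∀ x : BlowUp.affineAlgebra A I π,
      ((ψ x : BlowUp.affineAlgebra (Localization.Away a) (I.map (algebraMap A (Localization.Away a)))
          (algebraMap A (Localization.Away a) π)) :
          Localization.Away (algebraMap A (Localization.Away a) π)) =
        Localization.awayMap (algebraMap A (Localization.Away a)) π (x : Localization.Away π)) :
    letI := ψ.toAlgebra
    IsLocalization.Away (algebraMap A (BlowUp.affineAlgebra A I π) a)
      (BlowUp.affineAlgebra (Localization.Away a) (I.map (algebraMap A (Localization.Away a)))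
        (algebraMap A (Localization.Away a) π)) := by
  letI := ψ.toAlgebra
  have F1 : ∀ r : A, ψ (algebraMap A (BlowUp.affineAlgebra A I π) r) =
      algebraMap (Localization.Away a) (BlowUp.affineAlgebra (Localization.Away a)
        (I.map (algebraMap A (Localization.Away a))) (algebraMap A (Localization.Away a) π))
        (algebraMap A (Localization.Away a) r) := by
    intro r
    apply Subtype.ext
    rw [hψ]
    change Localization.awayMap (algebraMap A (Localization.Away a)) π
      (algebraMap A (Localization.Away π) r) =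
      algebraMap (Localization.Away a) (Localization.Away (algebraMap A (Localization.Away a) π))
        (algebraMap A (Localization.Away a) r)
    exact IsLocalization.map_eq _ _
  have hpsi : ∀ x, algebraMap (BlowUp.affineAlgebra A I π) (BlowUp.affineAlgebra (Localization.Away a)
      (I.map (algebraMap A (Localization.Away a))) (algebraMap A (Localization.Away a) π)) x = ψ x :=
    fun _ => rfl
  apply IsLocalization.Away.mk
  · rw [hpsi, F1]
    exact (IsLocalization.Away.algebraMap_isUnit a).map _
  · intro s
    refine induction_on (Localization.Away a) (I.map (algebraMap A (Localization.Away a)))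
      (algebraMap A (Localization.Away a) π) (p := fun s => ∃ (n : ℕ) (x : BlowUp.affineAlgebra A I π),
        s * algebraMap (BlowUp.affineAlgebra A I π) (BlowUp.affineAlgebra (Localization.Away a)
          (I.map (algebraMap A (Localization.Away a))) (algebraMap A (Localization.Away a) π))
          (algebraMap A (BlowUp.affineAlgebra A I π) a) ^ n =
        algebraMap (BlowUp.affineAlgebra A I π) (BlowUp.affineAlgebra (Localization.Away a)
          (I.map (algebraMap A (Localization.Away a))) (algebraMap A (Localization.Away a) π)) x)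
      ?_ ?_ ?_ ?_ s
    · intro r
      obtain ⟨n, r0, h⟩ := IsLocalization.Away.surj a r
      refine ⟨n, algebraMap A _ r0, ?_⟩
      rw [hpsi, hpsi, F1, F1, ← map_pow, ← map_mul, h]
    · intro x hx
      obtain ⟨⟨i, ⟨_, n, rfl⟩⟩, h⟩ :=
        (IsLocalization.mem_map_algebraMap_iff (Submonoid.powers a) (Localization.Away a)).mp hx
      refine ⟨n, frac A I π i.1 i.2, ?_⟩
      rw [hpsi, hpsi, F1]
      -- identify with the fraction `f i / f π`
      have hfi : algebraMap A (Localization.Away a) i.1 ∈
          I.map (algebraMap A (Localization.Away a)) := Ideal.mem_map_of_mem _ i.2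
      have e1 : ψ (frac A I π i.1 i.2) = frac (Localization.Away a)
          (I.map (algebraMap A (Localization.Away a))) (algebraMap A (Localization.Away a) π)
          (algebraMap A (Localization.Away a) i.1) hfi := by
        apply eq_frac_of_mul_eq
        rw [← F1, ← F1, ← map_mul, ← algebraMap_eq_mul_frac]
      rw [e1]
      apply eq_frac_of_mul_eq
      rw [← mul_assoc, ← algebraMap_eq_mul_frac, ← map_pow, ← map_mul]
      congr 1
      simpa using h
    · rintro y z ⟨n, y', hy⟩ ⟨m, z', hz⟩
      refine ⟨n + m, algebraMap A _ a ^ m * y' + algebraMap A _ a ^ n * z', ?_⟩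
      rw [map_add, map_mul, map_mul, map_pow, map_pow, ← hy, ← hz]
      ring
    · rintro y z ⟨n, y', hy⟩ ⟨m, z', hz⟩
      refine ⟨n + m, y' * z', ?_⟩
      rw [map_mul, ← hy, ← hz]
      ring
  · intro x y hxy
    rw [hpsi, hpsi] at hxy
    have h0 : ψ (x - y) = 0 := by rw [map_sub, hxy, sub_self]
    have h1 : Localization.awayMap (algebraMap A (Localization.Away a)) π
        ((x - y : BlowUp.affineAlgebra A I π) : Localization.Away π) = 0 := by
      rw [← hψ, h0]; rfl
    obtain ⟨n, hn⟩ := exists_pow_mul_eq_zero A π a _ h1
    refine ⟨n, ?_⟩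
    rw [← sub_eq_zero, ← mul_sub]
    apply Subtype.ext
    rw [← map_pow]
    exact hn

end Groth.Agent.Lib.Helper24.BlowAlgLoc
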