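import Mathlib
import Groth.Prelude.Def_BlowUp2
import Groth.Agent.Lib.Helper29.AffBlowAlg

/-!
# The affine blow-up algebra of a quotient
-/

namespace Groth.Agent.Lib.Helper24.BlowAlgQuot

open Groth.Agent.Lib.Helper29.AffBlow

universe u

/-- clearing denominators in `B[I/π]`. -/
lemma exists_pow_mul_eq (B : Type u) [CommRing B] (I : Ideal B) (π : B)
    (x : BlowUp.affineAlgebra B I π) :
    ∃ (n : ℕ) (y : B), algebraMap B (BlowUp.affineAlgebra B I π) π ^ n * x =
      algebraMap B (BlowUp.affineAlgebra B I π) y := by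
  refine induction_on B I π (p := fun x => ∃ (n : ℕ) (y : B),
    algebraMap B (BlowUp.affineAlgebra B I π) π ^ n * x =
      algebraMap B (BlowUp.affineAlgebra B I π) y) ?_ ?_ ?_ ?_ x
  · intro r
    exact ⟨0, r, by simp⟩
  · intro i hi
    exact ⟨1, i, by rw [pow_one, ← algebraMap_eq_mul_frac]⟩
  · rintro y z ⟨n, y', hy⟩ ⟨m, z', hz⟩
    refine ⟨n + m, π ^ m * y' + π ^ n * z', ?_⟩
    rw [map_add, map_mul, map_mul, map_pow, map_pow, ← hy, ← hz]
    ring
  · rintro y z ⟨n, y', hy⟩ ⟨m, z', hz⟩
    refine ⟨n + m, y' * z', ?_⟩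
    rw [map_mul, ← hy, ← hz]
    ring

theorem main (B A : Type u) [CommRing B] [CommRing A] [Algebra B A]
    (hq : Function.Surjective (algebraMap B A)) (I : Ideal B) (π : B) (hπ : π ∈ I)
    (ψ : BlowUp.affineAlgebra B I π →+*
      BlowUp.affineAlgebra A (I.map (algebraMap B A)) (algebraMap B A π))
    (hψ : ∀ x : BlowUp.affineAlgebra B I π,
      ((ψ x : BlowUp.affineAlgebra A (I.map (algebraMap B A)) (algebraMap B A π)) :
          Localization.Away (algebraMap B A π)) =
        Localization.awayMap (algebraMap B A) π (x : Localization.Away π)) :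
    Function.Surjective ψ ∧
      ∀ x : BlowUp.affineAlgebra B I π, x ∈ RingHom.ker ψ ↔
        ∃ n : ℕ, algebraMap B (BlowUp.affineAlgebra B I π) π ^ n * x ∈
          (RingHom.ker (algebraMap B A)).map (algebraMap B (BlowUp.affineAlgebra B I π)) := by
  -- compatibility with the structure maps
  have F1 : ∀ b : B, ψ (algebraMap B (BlowUp.affineAlgebra B I π) b) =
      algebraMap A (BlowUp.affineAlgebra A (I.map (algebraMap B A)) ((algebraMap B A) π)) ((algebraMap B A) b) := by
    intro b
    apply Subtype.ext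
    rw [hψ]
    change Localization.awayMap (algebraMap B A) π (algebraMap B (Localization.Away π) b) =
      algebraMap A (Localization.Away ((algebraMap B A) π)) ((algebraMap B A) b)
    exact IsLocalization.map_eq _ _
  have F2 : ∀ (i : B) (hi : i ∈ I), ψ (frac B I π i hi) =
      frac A (I.map (algebraMap B A)) ((algebraMap B A) π) ((algebraMap B A) i) (Ideal.mem_map_of_mem (algebraMap B A) hi) := by
    intro i hi
    apply Subtype.ext
    rw [hψ]
    change Localization.awayMap (algebraMap B A) π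
      (IsLocalization.mk' (Localization.Away π) i ⟨π, Submonoid.mem_powers π⟩) =
        IsLocalization.mk' (Localization.Away ((algebraMap B A) π)) ((algebraMap B A) i) ⟨(algebraMap B A) π, Submonoid.mem_powers ((algebraMap B A) π)⟩
    exact IsLocalization.map_mk' _ _ _
  have hsurj : Function.Surjective ψ := by
    intro y
    refine induction_on A (I.map (algebraMap B A)) ((algebraMap B A) π) (p := fun y => ∃ x, ψ x = y) ?_ ?_ ?_ ?_ y
    · intro r
      obtain ⟨b, rfl⟩ := hq r
      exact ⟨_, F1 b⟩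
    · intro x hx
      obtain ⟨i, hi, rfl⟩ := (Ideal.mem_map_iff_of_surjective (algebraMap B A) hq).mp hx
      exact ⟨_, F2 i hi⟩
    · rintro y z ⟨y', rfl⟩ ⟨z', rfl⟩
      exact ⟨y' + z', map_add _ _ _⟩
    · rintro y z ⟨y', rfl⟩ ⟨z', rfl⟩
      exact ⟨y' * z', map_mul _ _ _⟩
  refine ⟨hsurj, fun x => ?_⟩
  have hJ : (RingHom.ker (algebraMap B A)).map (algebraMap B (BlowUp.affineAlgebra B I π)) ≤ RingHom.ker ψ := by
    rw [Ideal.map_le_iff_le_comap]
    intro j hj
    rw [Ideal.mem_comap, RingHom.mem_ker, F1, (RingHom.mem_ker).mp hj, map_zero]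
  have hnzd : ψ (algebraMap B (BlowUp.affineAlgebra B I π) π) ∈
      nonZeroDivisors (BlowUp.affineAlgebra A (I.map (algebraMap B A)) ((algebraMap B A) π)) := by
    rw [F1]
    exact algebraMap_mem_nonZeroDivisors A (I.map (algebraMap B A)) ((algebraMap B A) π)
  constructor
  · intro hx
    rw [RingHom.mem_ker] at hx
    obtain ⟨n, y, hy⟩ := exists_pow_mul_eq B I π x
    have h0 : algebraMap A (BlowUp.affineAlgebra A (I.map (algebraMap B A)) ((algebraMap B A) π)) ((algebraMap B A) y) = 0 := by
      rw [← F1, ← hy, map_mul, hx, mul_zero]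
    have h1 : algebraMap A (Localization.Away ((algebraMap B A) π)) ((algebraMap B A) y) = 0 := congrArg Subtype.val h0
    rw [IsLocalization.map_eq_zero_iff (Submonoid.powers ((algebraMap B A) π))] at h1
    obtain ⟨⟨_, k, rfl⟩, hk⟩ := h1
    refine ⟨k + n, ?_⟩
    have h2 : π ^ k * y ∈ RingHom.ker (algebraMap B A) := by
      rw [RingHom.mem_ker, map_mul, map_pow]
      exact hk
    have h3 : algebraMap B (BlowUp.affineAlgebra B I π) π ^ (k + n) * x =
        algebraMap B (BlowUp.affineAlgebra B I π) (π ^ k * y) := by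
      rw [pow_add, mul_assoc, hy, map_mul, map_pow]
    rw [h3]
    exact Ideal.mem_map_of_mem _ h2
  · rintro ⟨n, hn⟩
    have h1 := hJ hn
    rw [RingHom.mem_ker, map_mul, map_pow] at h1
    rw [RingHom.mem_ker]
    exact (mem_nonZeroDivisors_iff_right.mp (pow_mem hnzd n)) _ (by rw [mul_comm]; exact h1)
end Groth.Agent.Lib.Helper24.BlowAlgQuot
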